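import Groth.Agent.DTenLib.Base
import Groth.Agent.DRingKP.BC
import Groth.Agent.ProTor.Kos
import Mathlib.Algebra.Homology.DerivedCategory.Linear
import Mathlib.RingTheory.Filtration

/-!
Ext groups out of a bounded above complex of finite projective modules, as classes of cocycles.
-/

set_option autoImplicit false
set_option linter.style.haveILetI false
universe u

namespace Groth.Agent.ExtPro

open CategoryTheory CategoryTheory.Limits

attribute [local instance] HasDerivedCategory.standard

variable {A : Type u} [CommRing A]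

/-- a module as a complex in degree `n`, in the derived category, shifted -/
noncomputable def ν (i : ℤ) :
    DerivedCategory.singleFunctor (ModuleCat.{u} A) 0 ⋙ shiftFunctor _ i ≅
      HomologicalComplex.single (ModuleCat.{u} A) (ComplexShape.up ℤ) (-i) ⋙ DerivedCategory.Q :=
  (DerivedCategory.singleFunctors (ModuleCat.{u} A)).shiftIso i (-i) 0 (by omega)

variable (P : DRing.Cx A) (K : Dual.D A) (e : DRing.toD P ≅ K) (i : ℤ)

/-- a cocycle in degree `i` -/
def IsCocycle {M : ModuleCat.{u} A} (u : P.X (-i) ⟶ M) : Prop := ∀ j, P.d j (-i) ≫ u = 0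

lemma isCocycle_zero {M : ModuleCat.{u} A} : IsCocycle P i (0 : P.X (-i) ⟶ M) := fun _ => comp_zero

lemma isCocycle_comp {M N : ModuleCat.{u} A} {u : P.X (-i) ⟶ M} (h : IsCocycle P i u) (f : M ⟶ N) :
    IsCocycle P i (u ≫ f) := fun j => by rw [← Category.assoc, h j, zero_comp]

lemma isCocycle_smul {M : ModuleCat.{u} A} {u : P.X (-i) ⟶ M} (h : IsCocycle P i u) (x : A) :
    IsCocycle P i (x • u) := fun j => by rw [Linear.comp_smul, h j, smul_zero]

/-- the chain map of a cocycle -/
noncomputable def chain {M : ModuleCat.{u} A} (u : P.X (-i) ⟶ M) (h : IsCocycle P i u) :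
    P ⟶ (HomologicalComplex.single (ModuleCat.{u} A) (ComplexShape.up ℤ) (-i)).obj M :=
  HomologicalComplex.mkHomToSingle u fun j _ => h j

/-- the class of a cocycle -/
noncomputable def cls {M : ModuleCat.{u} A} (u : P.X (-i) ⟶ M) (h : IsCocycle P i u) :
    K ⟶ ((DerivedCategory.singleFunctor (ModuleCat.{u} A) 0).obj M)⟦i⟧ :=
  e.inv ≫ DerivedCategory.Q.map (chain P i u h) ≫ (ν i).inv.app M

lemma cls_congr {M : ModuleCat.{u} A} {u v : P.X (-i) ⟶ M} (h : IsCocycle P i u) (h' : IsCocycle P i v)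
    (huv : u = v) : cls P K e i u h = cls P K e i v h' := by subst huv; rfl

lemma chain_f {M : ModuleCat.{u} A} (u : P.X (-i) ⟶ M) (h : IsCocycle P i u) :
    (chain P i u h).f (-i) = u ≫ (HomologicalComplex.singleObjXSelf (ComplexShape.up ℤ) (-i) M).inv :=
  HomologicalComplex.mkHomToSingle_f _ _

lemma chain_comp {M N : ModuleCat.{u} A} (u : P.X (-i) ⟶ M) (h : IsCocycle P i u) (f : M ⟶ N) :
    chain P i u h ≫ (HomologicalComplex.single (ModuleCat.{u} A) (ComplexShape.up ℤ) (-i)).map f =
      chain P i (u ≫ f) (isCocycle_comp P i h f) := by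
  refine HomologicalComplex.to_single_hom_ext ?_
  change (chain P i u h).f (-i) ≫ ((HomologicalComplex.single (ModuleCat.{u} A) (ComplexShape.up ℤ) (-i)).map f).f (-i) = _
  rw [chain, chain, HomologicalComplex.mkHomToSingle_f, HomologicalComplex.mkHomToSingle_f,
    HomologicalComplex.single_map_f_self, Category.assoc, Iso.inv_hom_id_assoc, Category.assoc]

lemma cls_comp {M N : ModuleCat.{u} A} (u : P.X (-i) ⟶ M) (h : IsCocycle P i u) (f : M ⟶ N) :
    cls P K e i u h ≫ ((DerivedCategory.singleFunctor (ModuleCat.{u} A) 0).map f)⟦i⟧' =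
      cls P K e i (u ≫ f) (isCocycle_comp P i h f) := by
  simp only [cls, Category.assoc]
  congr 1
  have := (ν (A := A) i).inv.naturality f
  rw [← chain_comp P i u h f, Functor.map_comp, Category.assoc]
  congr 1
  exact this.symm

lemma cls_smul {M : ModuleCat.{u} A} (u : P.X (-i) ⟶ M) (h : IsCocycle P i u) (x : A) :
    cls P K e i (x • u) (isCocycle_smul P i h x) = x • cls P K e i u h := by
  have hc : chain P i (x • u) (isCocycle_smul P i h x) = x • chain P i u h := by
    refine HomologicalComplex.to_single_hom_ext ?_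
    rw [HomologicalComplex.smul_f_apply, chain, chain, HomologicalComplex.mkHomToSingle_f,
      HomologicalComplex.mkHomToSingle_f, Linear.smul_comp]
  simp only [cls, hc, Functor.map_smul, Linear.smul_comp, Linear.comp_smul]

variable [P.IsKProjective]

lemma exists_cls {M : ModuleCat.{u} A} (f : K ⟶ ((DerivedCategory.singleFunctor (ModuleCat.{u} A) 0).obj M)⟦i⟧) :
    ∃ (u : P.X (-i) ⟶ M) (h : IsCocycle P i u), cls P K e i u h = f := by
  obtain ⟨g, hg⟩ := PerfLocal.exists_lift (F := (HomologicalComplex.single (ModuleCat.{u} A) (ComplexShape.up ℤ) (-i)).obj M)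
    (e.hom ≫ f ≫ (ν i).hom.app M)
  let s := (HomologicalComplex.singleObjXSelf (ComplexShape.up ℤ) (-i) M).hom
  have hh : IsCocycle P i (g.f (-i) ≫ s) := fun j => by
    rw [← Category.assoc, ← g.comm]
    have : ((HomologicalComplex.single (ModuleCat.{u} A) (ComplexShape.up ℤ) (-i)).obj M).d j (-i) = 0 := rfl
    rw [this, comp_zero, zero_comp]
  refine ⟨_, hh, ?_⟩
  have : chain P i (g.f (-i) ≫ s) hh = g := HomologicalComplex.to_single_hom_ext (by
    rw [chain, HomologicalComplex.mkHomToSingle_f, Category.assoc, Iso.hom_inv_id, Category.comp_id])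
  rw [cls, this, hg]
  simp only [Category.assoc, Iso.inv_hom_id_assoc]
  erw [Iso.hom_inv_id_app]
  exact Category.comp_id _

lemma cls_eq_zero_iff {M : ModuleCat.{u} A} (u : P.X (-i) ⟶ M) (h : IsCocycle P i u) :
    cls P K e i u h = 0 ↔ ∃ g : P.X (-i + 1) ⟶ M, P.d (-i) (-i + 1) ≫ g = u := by
  let s := HomologicalComplex.singleObjXSelf (ComplexShape.up ℤ) (-i) M
  constructor
  · intro hu
    have h0 : DerivedCategory.Q.map (chain P i u h) = DerivedCategory.Q.map 0 := by
      have := congrArg (fun w => e.hom ≫ w ≫ (ν i).hom.app M) hu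
      simp only [cls, Category.assoc, Iso.hom_inv_id_assoc, Iso.inv_hom_id_app, zero_comp, comp_zero] at this
      rw [Functor.map_zero]
      exact (Category.comp_id _).symm.trans this
    obtain ⟨H⟩ := DTenLib.homotopic_of_Q_map h0
    refine ⟨H.hom (-i + 1) (-i) ≫ s.hom, ?_⟩
    have hc := H.comm (-i)
    rw [dNext_eq _ (show (ComplexShape.up ℤ).Rel (-i) (-i + 1) from rfl),
      prevD_eq _ (show (ComplexShape.up ℤ).Rel (-i - 1) (-i) by simp), chain_f] at hc
    have h1 : ((HomologicalComplex.single (ModuleCat.{u} A) (ComplexShape.up ℤ) (-i)).obj M).d (-i - 1) (-i) = 0 := rfl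
    rw [h1, comp_zero, add_zero, HomologicalComplex.zero_f, add_zero] at hc
    calc P.d (-i) (-i + 1) ≫ H.hom (-i + 1) (-i) ≫ s.hom
        = (u ≫ s.inv) ≫ s.hom := by rw [hc, Category.assoc]
      _ = u := by rw [Category.assoc, Iso.inv_hom_id, Category.comp_id]
  · rintro ⟨g, hg⟩
    let hom : ∀ a b : ℤ, (ComplexShape.up ℤ).Rel b a →
        (P.X a ⟶ ((HomologicalComplex.single (ModuleCat.{u} A) (ComplexShape.up ℤ) (-i)).obj M).X b) := fun a b hab =>
      if hb : b = -i then
        eqToHom (congrArg P.X (show a = -i + 1 by have : b + 1 = a := hab; omega)) ≫ g ≫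
          (HomologicalComplex.singleObjXIsoOfEq (ComplexShape.up ℤ) (-i) M b hb).inv
      else 0
    have hc : chain P i u h = Homotopy.nullHomotopicMap' hom := by
      refine HomologicalComplex.to_single_hom_ext ?_
      rw [Homotopy.nullHomotopicMap'_f (show (ComplexShape.up ℤ).Rel (-i - 1) (-i) by simp)
        (show (ComplexShape.up ℤ).Rel (-i) (-i + 1) from rfl), chain, HomologicalComplex.mkHomToSingle_f]
      have h1 : ((HomologicalComplex.single (ModuleCat.{u} A) (ComplexShape.up ℤ) (-i)).obj M).d (-i - 1) (-i) = 0 := rfl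
      rw [h1, comp_zero, add_zero]
      simp only [hom, dite_true, eqToHom_refl, Category.id_comp]
      rw [← Category.assoc, hg]
      rfl
    rw [cls, DerivedCategory.Q_map_eq_of_homotopy (C := ModuleCat.{u} A)
      ((Homotopy.ofEq hc).trans (Homotopy.nullHomotopy' hom)), Functor.map_zero, zero_comp, comp_zero]

omit [P.IsKProjective]

variable (hP : ∀ j, Module.Finite A (P.X j) ∧ Module.Free A (P.X j))

include hP in
lemma mem_smul_top_of_image {N : Type u} [AddCommGroup N] [Module A N] (J : Ideal A) (j : ℤ)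
    (u : P.X j →ₗ[A] N) (hu : ∀ x, u x ∈ J • (⊤ : Submodule A N)) :
    u ∈ J • (⊤ : Submodule A (P.X j →ₗ[A] N)) := by
  classical
  haveI := (hP j).1
  haveI := (hP j).2
  let b := Module.Free.chooseBasis A (P.X j)
  have : u = ∑ k, (LinearMap.toSpanSingleton A N (u (b k))).comp (b.coord k) := b.ext fun k => by
    simp [Finsupp.single_apply, Finset.sum_ite_eq]
  rw [this]
  refine Submodule.sum_mem _ fun k _ => ?_
  exact ProTor.smul_top_map J
    { toFun := fun y => (LinearMap.toSpanSingleton A N y).comp (b.coord k)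
      map_add' := fun x y => LinearMap.ext fun z => by simp
      map_smul' := fun r x => LinearMap.ext fun z => by simp [smul_comm r] } (hu (b k))

variable [IsNoetherianRing A] (I : Ideal A)

include hP in
/-- cocycles with image deep in `I^m M` are coboundaries of cochains with image in `I^n M` -/
lemma exists_bound [P.IsKProjective] {M : ModuleCat.{u} A} [Module.Finite A M]
    (htors : ∀ f : K ⟶ ((DerivedCategory.singleFunctor (ModuleCat.{u} A) 0).obj M)⟦i⟧,
      ∃ N : ℕ, ∀ x ∈ I ^ N, x • f = 0) (e : DRing.toD P ≅ K) (n : ℕ) :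
    ∃ (m : ℕ), n ≤ m ∧ ∀ u : P.X (-i) ⟶ M, IsCocycle P i u →
      (∀ x, u.hom x ∈ I ^ m • (⊤ : Submodule A M)) →
      ∃ g : P.X (-i + 1) ⟶ M, (∀ x, g.hom x ∈ I ^ n • (⊤ : Submodule A M)) ∧ P.d (-i) (-i + 1) ≫ g = u := by
  haveI := (hP (-i)).1
  haveI := (hP (-i)).2
  let C := P.X (-i) →ₗ[A] M
  let Z : Submodule A C := LinearMap.ker (LinearMap.lcomp A M (P.d (-i - 1) (-i)).hom)
  let δ : (P.X (-i + 1) →ₗ[A] M) →ₗ[A] C := LinearMap.lcomp A M (P.d (-i) (-i + 1)).hom
  have hZ : ∀ u : C, u ∈ Z → IsCocycle P i (ModuleCat.ofHom u) := fun u hu j => by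
    by_cases hj : j + 1 = -i
    · obtain rfl : j = -i - 1 := by omega
      exact ModuleCat.hom_ext hu
    · rw [P.shape j (-i) hj, zero_comp]
  have hann : ∀ u ∈ Z, ∃ N : ℕ, ∀ x ∈ I ^ N, x • u ∈ LinearMap.range δ := fun u hu => by
    obtain ⟨N, hN⟩ := htors (cls P K e i (ModuleCat.ofHom u) (hZ u hu))
    refine ⟨N, fun x hx => ?_⟩
    have := hN x hx
    rw [← cls_smul, cls_eq_zero_iff] at this
    obtain ⟨g, hg⟩ := this
    exact ⟨g.hom, congrArg ModuleCat.Hom.hom hg⟩
  obtain ⟨N, hN⟩ : ∃ N : ℕ, I ^ N • Z ≤ LinearMap.range δ := by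
    obtain ⟨s, hs⟩ := IsNoetherian.noetherian Z
    choose N hN using fun u : s => hann u.1 (hs ▸ Submodule.subset_span u.2)
    refine ⟨Finset.univ.sup N, Submodule.smul_le.2 fun x hx u hu => ?_⟩
    rw [← hs] at hu
    induction hu using Submodule.span_induction with
    | mem w hw => exact hN ⟨w, hw⟩ x (Ideal.pow_le_pow_right (Finset.le_sup (Finset.mem_univ _)) hx)
    | zero => simp
    | add a b _ _ ha hb => rw [smul_add]; exact Submodule.add_mem _ ha hb
    | smul r a _ ha => rw [smul_comm]; exact Submodule.smul_mem _ r ha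
  obtain ⟨c, hc⟩ := Ideal.exists_pow_inf_eq_pow_smul I Z
  refine ⟨c + (n + N), by omega, fun u hu him => ?_⟩
  have huZ : u.hom ∈ Z := congrArg ModuleCat.Hom.hom (hu (-i - 1))
  have h1 := (hc (c + (n + N)) (by omega)).le ⟨mem_smul_top_of_image P hP _ _ u.hom him, huZ⟩
  rw [Nat.add_sub_cancel_left, pow_add, ← smul_eq_mul, Submodule.smul_assoc] at h1
  have h2 : u.hom ∈ Submodule.map δ (I ^ n • ⊤) := by
    rw [Submodule.map_smul'', Submodule.map_top]
    exact Submodule.smul_mono le_rfl ((Submodule.smul_mono le_rfl inf_le_right).trans hN) h1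
  obtain ⟨g, hg, hgu⟩ := Submodule.mem_map.1 h2
  exact ⟨ModuleCat.ofHom g, fun x => ProTor.smul_top_map _ (LinearMap.applyₗ x) hg, ModuleCat.hom_ext hgu⟩

end Groth.Agent.ExtPro
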