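import Groth.Agent.ExtPro.Basic
import Groth.Agent.DRingKP.Pseudo
import Mathlib.CategoryTheory.Limits.Types.Filtered
import Mathlib.Algebra.Category.ModuleCat.FilteredColimits
import Mathlib.CategoryTheory.Limits.ConcreteCategory.Basic

/-!
Homs out of finite free modules and of pseudo-coherent objects into filtered colimits.
-/

set_option autoImplicit false
set_option linter.style.haveILetI false
universe u

namespace Groth.Agent.ExtPro

open CategoryTheory CategoryTheory.Limits CategoryTheory.Pretriangulated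

attribute [local instance] HasDerivedCategory.standard

variable {R : Type u} [CommRing R] {J : Type u} [SmallCategory J] [IsFiltered J]
  {F : J ⥤ ModuleCat.{u} R} {c : Cocone F} (hc : IsColimit c)

include hc in
lemma exists_factor_fg (P : ModuleCat.{u} R) [Module.Finite R P] [Module.Free R P] (g : P ⟶ c.pt) :
    ∃ (j : J) (h : P ⟶ F.obj j), h ≫ c.ι.app j = g := by
  classical
  let B := Module.Free.chooseBasis R P
  choose j y hy using fun k => Concrete.isColimit_exists_rep F hc (g (B k))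
  obtain ⟨S, hS⟩ := IsFiltered.sup_objs_exists (Finset.univ.image j)
  let f : ∀ k, j k ⟶ S := fun k => (hS (Finset.mem_image_of_mem j (Finset.mem_univ k))).some
  refine ⟨S, ModuleCat.ofHom (B.constr R fun k => (F.map (f k)).hom (y k)), ModuleCat.hom_ext (B.ext fun k => ?_)⟩
  simp only [ModuleCat.hom_comp, ModuleCat.hom_ofHom, LinearMap.comp_apply, Module.Basis.constr_basis]
  exact (LinearMap.congr_fun (congrArg ModuleCat.Hom.hom (c.w (f k))) (y k)).trans (hy k)

include hc in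
lemma exists_eq_zero_fg (P : ModuleCat.{u} R) [Module.Finite R P] [Module.Free R P] (j : J) (g : P ⟶ F.obj j)
    (hg : g ≫ c.ι.app j = 0) : ∃ (j' : J) (f : j ⟶ j'), g ≫ F.map f = 0 := by
  classical
  let B := Module.Free.chooseBasis R P
  have h : ∀ k, ∃ (j' : J) (f : j ⟶ j'), (F.map f).hom (g (B k)) = 0 := fun k => by
    have h0 : (c.ι.app j).hom (g (B k)) = (c.ι.app j).hom 0 := by
      rw [map_zero]
      exact LinearMap.congr_fun (congrArg ModuleCat.Hom.hom hg) (B k)
    obtain ⟨j', f₁, f₂, hf⟩ := Concrete.isColimit_exists_of_rep_eq F hc (g (B k)) 0 h0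
    exact ⟨j', f₁, hf.trans (map_zero (F.map f₂).hom)⟩
  have hfin : ∀ t : Finset (Module.Free.ChooseBasisIndex R P), ∃ (j' : J) (f : j ⟶ j'),
      ∀ k ∈ t, (F.map f).hom (g (B k)) = 0 := by
    intro t
    induction t using Finset.induction with
    | empty => exact ⟨j, 𝟙 j, fun k hk => absurd hk (Finset.notMem_empty k)⟩
    | insert k t _ ih =>
      obtain ⟨T₁, f₁, h₁⟩ := ih
      obtain ⟨T₂, f₂, h₂⟩ := h k
      obtain ⟨T, a₁, a₂, ha⟩ := IsFiltered.span f₁ f₂
      refine ⟨T, f₁ ≫ a₁, fun k' hk' => ?_⟩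
      rcases Finset.mem_insert.1 hk' with rfl | hk'
      · rw [ha, Functor.map_comp, ModuleCat.hom_comp, LinearMap.comp_apply, h₂, map_zero]
      · rw [Functor.map_comp, ModuleCat.hom_comp, LinearMap.comp_apply, h₁ k' hk', map_zero]
  obtain ⟨T, f, hf⟩ := hfin Finset.univ
  exact ⟨T, f, ModuleCat.hom_ext (B.ext fun k => hf k (Finset.mem_univ k))⟩

lemma hom_eq_zero_of_isAbove {C : Dual.D R} {m : ℤ} (hC : DRingKP.IsAbove m C) (M : ModuleCat.{u} R) (n : ℤ)
    (hn : n ≤ -m) (f : C ⟶ ((DerivedCategory.singleFunctor (ModuleCat.{u} R) 0).obj M)⟦n⟧) : f = 0 := by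
  have h1 : DerivedCategory.TStructure.t.IsLE C (m - 1) :=
    (DerivedCategory.isLE_iff C (m - 1)).2 fun i hi => hC i (by omega)
  have h2 : DerivedCategory.TStructure.t.IsGE (((DerivedCategory.singleFunctor (ModuleCat.{u} R) 0).obj M)⟦n⟧) (-n) :=
    DerivedCategory.TStructure.t.isGE_shift _ 0 n (-n) (by omega)
  exact DerivedCategory.TStructure.t.zero_of_isLE_of_isGE f (m - 1) (-n) (by omega) h1 h2

include hc in
theorem filteredColimit_comparison (m : ℤ) (K : Dual.D R) (hK : DRing.IsPseudoCoherent R m K) :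
    (∀ n : ℤ, n < -m → ∀ x : K ⟶ ((DerivedCategory.singleFunctor (ModuleCat.{u} R) 0).obj c.pt)⟦n⟧,
      ∃ (j : J) (y : K ⟶ ((DerivedCategory.singleFunctor (ModuleCat.{u} R) 0).obj (F.obj j))⟦n⟧),
        y ≫ ((DerivedCategory.singleFunctor (ModuleCat.{u} R) 0).map (c.ι.app j))⟦n⟧' = x) ∧
    (∀ n : ℤ, n ≤ -m → ∀ (j : J) (y : K ⟶ ((DerivedCategory.singleFunctor (ModuleCat.{u} R) 0).obj (F.obj j))⟦n⟧),
      y ≫ ((DerivedCategory.singleFunctor (ModuleCat.{u} R) 0).map (c.ι.app j))⟦n⟧' = 0 →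
      ∃ (j' : J) (f : j ⟶ j'),
        y ≫ ((DerivedCategory.singleFunctor (ModuleCat.{u} R) 0).map (F.map f))⟦n⟧' = 0) := by
  obtain ⟨E, a, b, α, hv, hfree, hiso, hepi⟩ := hK
  haveI : E.IsKProjective := DRingKP.isKProjective_of_vanishesAbove (b := b) (fun i hi => hv i (Or.inr hi))
    fun i => haveI := (hfree i).2; (IsProjective.iff_projective (R := R) (E.X i)).1 inferInstance
  obtain ⟨C, q, δ, hT⟩ := distinguished_cocone_triangle α
  have hC : DRingKP.IsAbove m C := (DRingKP.mIso_iff m _ hT).1 ⟨hiso, hepi⟩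
  have hinj : ∀ (M : ModuleCat.{u} R) (n : ℤ), n ≤ -m →
      ∀ f : K ⟶ ((DerivedCategory.singleFunctor (ModuleCat.{u} R) 0).obj M)⟦n⟧, α ≫ f = 0 → f = 0 := by
    intro M n hn f hf
    obtain ⟨g, rfl⟩ := Triangle.yoneda_exact₂ _ hT f hf
    rw [hom_eq_zero_of_isAbove hC M n hn g]
    exact comp_zero
  refine ⟨fun n hn x => ?_, fun n hn j y hy => ?_⟩
  · obtain ⟨u, hu, hux⟩ := exists_cls E (DRing.toD E) (Iso.refl _) n (α ≫ x)
    haveI := (hfree (-n)).1
    haveI := (hfree (-n)).2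
    obtain ⟨j, v, hv'⟩ := exists_factor_fg hc (E.X (-n)) u
    haveI := (hfree (-n - 1)).1
    haveI := (hfree (-n - 1)).2
    obtain ⟨j', f, hf⟩ := exists_eq_zero_fg hc (E.X (-n - 1)) j (E.d (-n - 1) (-n) ≫ v) (by
      rw [Category.assoc, hv']; exact hu _)
    let w := v ≫ F.map f
    have hw : IsCocycle E n w := fun i => by
      by_cases hi : i = -n - 1
      · subst hi
        rw [← Category.assoc]; exact hf
      · rw [E.shape i (-n) (by simp only [ComplexShape.up_Rel]; omega), zero_comp]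
    let z := cls E (DRing.toD E) (Iso.refl _) n w hw
    -- extend along `α`
    have hz : (Triangle.mk α q δ).invRotate.mor₁ ≫ z = 0 := by
      change _ ≫ z = 0
      have : ∀ g : (shiftFunctor (Dual.D R) (-1 : ℤ)).obj C ⟶ _, g = (0 : _ ⟶ ((DerivedCategory.singleFunctor (ModuleCat.{u} R) 0).obj (F.obj j'))⟦n⟧) := fun g =>
        hom_eq_zero_of_isAbove (DRingKP.isAbove_shift hC (-1)) _ n (by omega) g
      exact this _
    obtain ⟨(y : K ⟶ _), hy⟩ := Triangle.yoneda_exact₂ _ (inv_rot_of_distTriang _ hT) z hz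
    replace hy : z = α ≫ y := hy
    refine ⟨j', y, sub_eq_zero.1 (hinj c.pt n hn.le _ ?_)⟩
    rw [Preadditive.comp_sub, ← Category.assoc, ← hy, cls_comp, ← hux, sub_eq_zero]
    refine cls_congr _ _ _ _ _ _ ?_
    rw [Category.assoc, c.w, hv']
  · obtain ⟨u, hu, hux⟩ := exists_cls E (DRing.toD E) (Iso.refl _) n (α ≫ y)
    have h0 : cls E (DRing.toD E) (Iso.refl _) n (u ≫ c.ι.app j) (isCocycle_comp E n hu _) = 0 := by
      rw [← cls_comp E (DRing.toD E) (Iso.refl _) n u hu, hux, Category.assoc, hy, comp_zero]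
    rw [cls_eq_zero_iff] at h0
    obtain ⟨g, hg⟩ := h0
    haveI := (hfree (-n + 1)).1
    haveI := (hfree (-n + 1)).2
    obtain ⟨j₁, g₁, hg₁⟩ := exists_factor_fg hc (E.X (-n + 1)) g
    let k := IsFiltered.max j j₁
    let g₂ := g₁ ≫ F.map (IsFiltered.rightToMax j j₁)
    haveI := (hfree (-n)).1
    haveI := (hfree (-n)).2
    obtain ⟨j', f, hf⟩ := exists_eq_zero_fg hc (E.X (-n)) k
      (u ≫ F.map (IsFiltered.leftToMax j j₁) - E.d (-n) (-n + 1) ≫ g₂) (by
        rw [Preadditive.sub_comp, Category.assoc, c.w]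
        simp only [g₂, Category.assoc]
        erw [c.w (IsFiltered.rightToMax j j₁), hg₁, hg]
        exact sub_self _)
    refine ⟨j', IsFiltered.leftToMax j j₁ ≫ f, hinj _ n hn _ ?_⟩
    rw [← Category.assoc, ← hux, cls_comp, cls_eq_zero_iff]
    refine ⟨g₂ ≫ F.map f, ?_⟩
    rw [Preadditive.sub_comp, sub_eq_zero, Category.assoc, Category.assoc] at hf
    rw [Functor.map_comp]
    exact hf.symm

end Groth.Agent.ExtPro
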