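import Groth.Agent.ExtPro.Basic
import Mathlib.Algebra.Homology.DerivedCategory.SingleTriangle
import Mathlib.Algebra.Homology.DerivedCategory.FullyFaithful

/-!
Dimension shifting: classes in `Ext^p(M, N)` restricted to `I^n M` come from `I^(n-c) N`.
-/

set_option autoImplicit false
set_option linter.style.haveILetI false
universe u

namespace Groth.Agent.ExtPro

open CategoryTheory CategoryTheory.Limits CategoryTheory.Pretriangulated

attribute [local instance] HasDerivedCategory.standard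

variable {A : Type u} [CommRing A]

/-- a module in degree zero of the derived category -/
noncomputable abbrev single0 : ModuleCat.{u} A ⥤ DerivedCategory (ModuleCat.{u} A) :=
  DerivedCategory.singleFunctor (ModuleCat.{u} A) 0

lemma hom_shift_eq_zero {F N : ModuleCat.{u} A} [Projective F] (q : ℤ) (hq : q ≠ 0)
    (f : single0.obj F ⟶ (single0.obj N)⟦q⟧) : f = 0 := by
  let P : DRing.Cx A := (HomologicalComplex.single (ModuleCat.{u} A) (ComplexShape.up ℤ) 0).obj F
  have hz : ∀ i : ℤ, i ≠ 0 → IsZero (P.X i) := fun i hi => HomologicalComplex.isZero_single_obj_X _ 0 F i hi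
  haveI : P.IsKProjective := DRingKP.isKProjective_of_vanishesAbove (b := 0) (fun i hi => hz i (by omega)) fun i => by
    by_cases hi : i = 0
    · subst hi
      exact Projective.of_iso (HomologicalComplex.singleObjXSelf (ComplexShape.up ℤ) 0 F).symm inferInstance
    · exact ⟨fun g _ _ => ⟨0, (hz i hi).eq_of_src _ _⟩⟩
  let e : DRing.toD P ≅ single0.obj F := ((DerivedCategory.singleFunctorIsoCompQ _ 0).app F).symm
  obtain ⟨u, hu, rfl⟩ := exists_cls P (single0.obj F) e q f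
  rw [cls_eq_zero_iff]
  exact ⟨0, (hz (-q) (by omega)).eq_of_src _ _⟩

variable [IsNoetherianRing A] (I : Ideal A)

/-- the statement proved by dimension shifting -/
def Bounded (p : ℕ) : Prop :=
  ∀ (M N : Type u) [AddCommGroup M] [Module A M] [Module.Finite A M] [AddCommGroup N] [Module A N],
    ∃ c : ℕ, ∀ n : ℕ, c ≤ n →
      ∀ e : single0.obj (ModuleCat.of A M) ⟶ (single0.obj (ModuleCat.of A N))⟦(p : ℤ)⟧,
        ∃ e' : single0.obj (ModuleCat.of A ↥(I ^ n • ⊤ : Submodule A M)) ⟶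
            (single0.obj (ModuleCat.of A ↥(I ^ (n - c) • ⊤ : Submodule A N)))⟦(p : ℤ)⟧,
          e' ≫ (single0.map (ModuleCat.ofHom (I ^ (n - c) • ⊤ : Submodule A N).subtype))⟦(p : ℤ)⟧' =
            single0.map (ModuleCat.ofHom (I ^ n • ⊤ : Submodule A M).subtype) ≫ e

lemma bounded_zero : Bounded (A := A) I 0 := by
  intro M N _ _ _ _ _
  refine ⟨0, fun n _ e => ?_⟩
  let z := shiftFunctorZero' (DerivedCategory (ModuleCat.{u} A)) (((0 : ℕ) : ℤ)) Nat.cast_zero
  obtain ⟨f, hf⟩ := single0.map_surjective (e ≫ z.hom.app _)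
  let g : ModuleCat.of A ↥(I ^ n • ⊤ : Submodule A M) ⟶ ModuleCat.of A ↥(I ^ (n - 0) • ⊤ : Submodule A N) :=
    ModuleCat.ofHom (f.hom.restrict fun x hx => ProTor.smul_top_map (I ^ n) f.hom hx)
  refine ⟨single0.map g ≫ z.inv.app (single0.obj (ModuleCat.of A ↥(I ^ (n - 0) • ⊤ : Submodule A N))), ?_⟩
  refine (Category.assoc _ _ _).trans ((congrArg (single0.map g ≫ ·) (z.inv.naturality _).symm).trans ?_)
  refine (Category.assoc _ _ _).symm.trans ((congrArg (· ≫ z.inv.app (single0.obj (ModuleCat.of A N)))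
    ((single0.map_comp g (ModuleCat.ofHom (I ^ (n - 0) • ⊤ : Submodule A N).subtype)).symm.trans
      ((congrArg single0.map (show g ≫ ModuleCat.ofHom (I ^ (n - 0) • ⊤ : Submodule A N).subtype =
        ModuleCat.ofHom (I ^ n • ⊤ : Submodule A M).subtype ≫ f from rfl)).trans (single0.map_comp _ _)))).trans ?_)
  refine (Category.assoc _ _ _).trans (congrArg (single0.map (ModuleCat.ofHom (I ^ n • ⊤ : Submodule A M).subtype) ≫ ·) ?_)
  refine (congrArg (· ≫ z.inv.app (single0.obj (ModuleCat.of A N))) hf).trans ((Category.assoc _ _ _).trans ?_)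
  exact (congrArg (e ≫ ·) (z.hom_inv_id_app _)).trans (Category.comp_id _)

lemma bounded_succ (p : ℕ) (ih : Bounded (A := A) I p) : Bounded (A := A) I (p + 1) := by
  intro M N _ _ _ _ _
  obtain ⟨k, π, hπ⟩ := Module.Finite.exists_fin' A M
  let R := LinearMap.ker π
  obtain ⟨c₀, hc₀⟩ := Ideal.exists_pow_inf_eq_pow_smul I R
  obtain ⟨c₁, hc₁⟩ := ih R N
  refine ⟨c₀ + c₁, fun n hn e => ?_⟩
  let S : ShortComplex (ModuleCat.{u} A) := ShortComplex.mk (ModuleCat.ofHom R.subtype) (ModuleCat.ofHom π)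
    (ModuleCat.hom_ext (LinearMap.comp_ker_subtype π))
  have hS : S.ShortExact := ShortComplex.ShortExact.mk'
    ((ShortComplex.moduleCat_exact_iff_range_eq_ker _).2 (Submodule.range_subtype _))
    ((ModuleCat.mono_iff_injective _).2 Subtype.val_injective) ((ModuleCat.epi_iff_surjective _).2 hπ)
  let F' : Submodule A (Fin k → A) := I ^ n • ⊤
  let π' : F' →ₗ[A] (I ^ n • ⊤ : Submodule A M) := π.restrict fun x hx => ProTor.smul_top_map (I ^ n) π hx
  have hπ' : Function.Surjective π' := fun y => by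
    obtain ⟨x, hx, hxy⟩ : (y : M) ∈ Submodule.map π F' := by
      rw [Submodule.map_smul'', Submodule.map_top, LinearMap.range_eq_top.2 hπ]
      exact y.2
    exact ⟨⟨x, hx⟩, Subtype.ext hxy⟩
  let ι' : ModuleCat.of A (LinearMap.ker π') ⟶ ModuleCat.of A F' := ModuleCat.ofHom (X := LinearMap.ker π') (Y := F') (LinearMap.ker π').subtype
  let S' : ShortComplex (ModuleCat.{u} A) := ShortComplex.mk ι'
    (ModuleCat.ofHom π') (ModuleCat.hom_ext (LinearMap.ext fun (x : LinearMap.ker π') => x.2))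
  have hS' : S'.ShortExact := ShortComplex.ShortExact.mk'
    ((ShortComplex.moduleCat_exact_iff_range_eq_ker _).2 (Submodule.range_subtype _))
    ((ModuleCat.mono_iff_injective _).2 Subtype.val_injective) ((ModuleCat.epi_iff_surjective _).2 hπ')
  have hker : ∀ x : LinearMap.ker π', (x.1 : Fin k → A) ∈ R :=
    fun x => LinearMap.mem_ker.2 (congrArg Subtype.val (LinearMap.mem_ker.1 x.2))
  let t : LinearMap.ker π' →ₗ[A] R := LinearMap.codRestrict R (F'.subtype ∘ₗ (LinearMap.ker π').subtype) hker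
  let φ : S' ⟶ S := ⟨ModuleCat.ofHom t, ModuleCat.ofHom F'.subtype,
    ModuleCat.ofHom (I ^ n • ⊤ : Submodule A M).subtype, rfl, rfl⟩
  have hmem : ∀ x, t x ∈ (I ^ (n - c₀) • ⊤ : Submodule A R) := fun x => by
    have h1 := (hc₀ n (by omega)).le ⟨x.1.2, hker x⟩
    have h2 : (x.1 : Fin k → A) ∈ Submodule.map R.subtype (I ^ (n - c₀) • ⊤) := by
      rw [Submodule.map_smul'', Submodule.map_subtype_top]
      exact Submodule.smul_mono le_rfl inf_le_right h1
    obtain ⟨w, hw, hwx⟩ := Submodule.mem_map.1 h2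
    have : w = t x := Subtype.ext hwx
    exact this ▸ hw
  let t' : ModuleCat.of A (LinearMap.ker π') ⟶ ModuleCat.of A ↥(I ^ (n - c₀) • ⊤ : Submodule A R) :=
    ModuleCat.ofHom (LinearMap.codRestrict _ t hmem)
  have he : (hS.singleTriangle).mor₂ ≫ e = 0 := hom_shift_eq_zero (F := ModuleCat.of A (Fin k → A)) _ (by omega) _
  obtain ⟨g, hg⟩ := Triangle.yoneda_exact₃ _ hS.singleTriangle_distinguished e he
  let a := shiftFunctorAdd' (DerivedCategory (ModuleCat.{u} A)) (p : ℤ) 1 ((p + 1 : ℕ) : ℤ) (by simp)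
  obtain ⟨g₁, hg₁⟩ := (shiftFunctor (DerivedCategory (ModuleCat.{u} A)) (1 : ℤ)).map_surjective
    (show (single0.obj S.X₁)⟦(1 : ℤ)⟧ ⟶ ((single0.obj (ModuleCat.of A N))⟦(p : ℤ)⟧)⟦(1 : ℤ)⟧ from g ≫ a.hom.app _)
  obtain ⟨g', hg'⟩ := hc₁ (n - c₀) (by omega) g₁
  let j : ModuleCat.of A ↥(I ^ (n - c₀ - c₁) • ⊤ : Submodule A N) ⟶
      ModuleCat.of A ↥(I ^ (n - (c₀ + c₁)) • ⊤ : Submodule A N) :=
    ModuleCat.ofHom (Submodule.inclusion (Submodule.smul_mono_left (Ideal.pow_le_pow_right (by omega))))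
  refine ⟨hS'.singleδ ≫ (single0.map t' ≫ g' ≫ (single0.map j)⟦(p : ℤ)⟧')⟦(1 : ℤ)⟧' ≫ a.inv.app _, ?_⟩
  have hnat : single0.map φ.τ₃ ≫ hS.singleδ = hS'.singleδ ≫ (single0.map φ.τ₁)⟦(1 : ℤ)⟧' :=
    ((CategoryTheory.ShortComplex.ShortExact.singleTriangle.map hS' hS φ).comm₃).symm
  have hj : j ≫ ModuleCat.ofHom (I ^ (n - (c₀ + c₁)) • ⊤ : Submodule A N).subtype =
      ModuleCat.ofHom (I ^ (n - c₀ - c₁) • ⊤ : Submodule A N).subtype := rfl
  have ha : a.inv.app _ ≫ (single0.map (ModuleCat.ofHom (I ^ (n - (c₀ + c₁)) • ⊤ : Submodule A N).subtype))⟦((p + 1 : ℕ) : ℤ)⟧' =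
      ((single0.map (ModuleCat.ofHom (I ^ (n - (c₀ + c₁)) • ⊤ : Submodule A N).subtype))⟦(p : ℤ)⟧')⟦(1 : ℤ)⟧' ≫ a.inv.app _ :=
    (a.inv.naturality _).symm
  have hφ : t' ≫ ModuleCat.ofHom (I ^ (n - c₀) • ⊤ : Submodule A R).subtype = φ.τ₁ := rfl
  simp only [Category.assoc]
  rw [ha, ← Functor.map_comp_assoc]
  simp only [Category.assoc, ← Functor.map_comp, hj]
  rw [hg', ← Category.assoc (single0.map t'), ← Functor.map_comp, hφ, Functor.map_comp, Category.assoc,
    ← reassoc_of% hnat, hg₁, Category.assoc, Iso.hom_inv_id_app]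
  rw [hg]
  exact congrArg _ (congrArg _ (Category.comp_id g))

theorem bounded (p : ℕ) : Bounded (A := A) I p := by
  induction p with
  | zero => exact bounded_zero I
  | succ p ih => exact bounded_succ I p ih

end Groth.Agent.ExtPro
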